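import Groth.Agent.EtRetr.Surj
import Groth.Prelude.Def_ProEtW
import Mathlib.CategoryTheory.Functor.OfSequence
import Mathlib.CategoryTheory.Limits.Constructions.Filtered
import Mathlib.CategoryTheory.Limits.Constructions.Over.Basic
import Mathlib.RingTheory.FiniteType

/-!
A faithfully flat ind-étale extension with retractions of all faithfully flat étale algebras.
-/

set_option autoImplicit false
set_option linter.style.haveILetI false

universe u

open CategoryTheory CategoryTheory.Limits

namespace Groth.Agent.EtRetr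

open IndEtaleOps (E)

theorem EF_finite_sigma (X : CommRingCat.{u}) (α : Type u) [Finite α] :
    ∀ (f : α → Under X) [HasCoproduct f], (∀ a, EF (f a).hom) → EF (∐ f).hom := by
  induction α using Finite.induction_empty_option with
  | @of_equiv α β e ih =>
    intro f _ hf
    let i : (∐ fun a => f (e a)) ≅ ∐ f := Sigma.reindex e f
    rw [← Under.w i.hom]
    exact EF_comp (ih _ fun a => hf _) (EF_of_iso ((Under.forget X).map i.hom))
  | h_empty =>
    intro f _ _
    let i : Under.mk (𝟙 X) ≅ ∐ f :=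
      Under.mkIdInitial.uniqueUpToIso (IsInitial.ofUniqueHom
        (fun Y => Sigma.desc fun a => a.elim) (fun Y g => Sigma.hom_ext _ _ fun a => a.elim))
    rw [← Under.w i.hom]
    exact EF_comp (EF_of_iso (𝟙 X)) (EF_of_iso ((Under.forget X).map i.hom))
  | @h_option α _ ih =>
    intro f _ hf
    let T := ∐ fun a => f (some a)
    have hT : EF T.hom := ih _ fun a => hf _
    let Q : Under X := Under.mk ((f none).hom ≫ pushout.inl (f none).hom T.hom)
    have hQ : EF Q.hom := EF_comp (hf none) (MorphismProperty.pushout_inl _ _ hT)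
    let inl : f none ⟶ Q := Under.homMk (pushout.inl _ _) rfl
    let inr : T ⟶ Q := Under.homMk (pushout.inr _ _) pushout.condition.symm
    let c : Cofan f := Cofan.mk Q fun o => match o with
      | none => inl
      | some a => Sigma.ι (fun a => f (some a)) a ≫ inr
    let hc : IsColimit c := Cofan.IsColimit.mk c
      (fun s => Under.homMk (pushout.desc (s.inj none).right (Sigma.desc fun a => s.inj (some a) : T ⟶ s.pt).right
        ((Under.w _).trans (Under.w _).symm)) (by
          show ((f none).hom ≫ pushout.inl _ _) ≫ pushout.desc _ _ _ = s.pt.hom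
          rw [Category.assoc, pushout.inl_desc]
          exact Under.w _))
      (fun s o => by
        match o with
        | none => exact Under.UnderMorphism.ext (pushout.inl_desc _ _ _)
        | some a =>
          refine (Category.assoc _ _ _).trans ?_
          refine (congrArg _ (Under.UnderMorphism.ext ?_)).trans (Sigma.ι_desc (fun a => s.inj (some a)) a)
          exact pushout.inr_desc _ _ _)
      (fun s m hm => by
        refine Under.UnderMorphism.ext (pushout.hom_ext ?_ ?_)
        · exact (congrArg CommaMorphism.right (hm none)).trans (pushout.inl_desc _ _ _).symm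
        · refine Eq.trans (congrArg CommaMorphism.right ?_ : (inr ≫ m).right = _) (pushout.inr_desc _ _ _).symm
          refine Sigma.hom_ext _ _ fun a => ?_
          rw [Sigma.ι_desc, ← Category.assoc]
          exact hm (some a))
    let i : Q ≅ ∐ f := hc.coconePointUniqueUpToIso (coproductIsCoproduct f)
    rw [← Under.w i.hom]
    exact EF_comp hQ (EF_of_iso ((Under.forget X).map i.hom))

/-- One step: adjoin all faithfully flat étale algebras. -/
theorem exists_step (X : CommRingCat.{u}) :
    ∃ (X' : CommRingCat.{u}) (i : X ⟶ X'), MorphismProperty.ind.{u} EF i ∧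
      ∀ (T : CommRingCat.{u}) (b : X ⟶ T), EF b → ∃ r : T ⟶ X', b ≫ r = i := by
  let Idx := {q : Σ n : ℕ, Ideal (MvPolynomial (Fin n) X) //
    EF (CommRingCat.ofHom (algebraMap X (MvPolynomial (Fin q.1) X ⧸ q.2)))}
  let F : Discrete Idx ⥤ Under X :=
    Discrete.functor fun q => Under.mk (CommRingCat.ofHom (algebraMap X (MvPolynomial (Fin q.1.1) X ⧸ q.1.2)))
  let G := CoproductsFromFiniteFiltered.liftToFinsetObj F
  have hG : ∀ s, EF (G.obj s).hom := fun s => EF_finite_sigma X _ _ fun a => a.1.as.2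
  refine ⟨(colimit G).right, (colimit G).hom, (MorphismProperty.ind_iff_ind_underMk _).2
    ⟨_, inferInstance, inferInstance, ColimitPresentation.colimit G, hG⟩, fun T b hb => ?_⟩
  letI := b.hom.toAlgebra
  have : Algebra.Etale X T := hb.1
  obtain ⟨n, π, hπ⟩ := Algebra.FiniteType.iff_quotient_mvPolynomial''.1 (inferInstance : Algebra.FiniteType X T)
  let e := Ideal.quotientKerAlgEquivOfSurjective hπ
  let q : Idx := ⟨⟨n, RingHom.ker π⟩, by
    rw [show CommRingCat.ofHom (algebraMap X (MvPolynomial (Fin n) X ⧸ RingHom.ker π)) =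
      b ≫ CommRingCat.ofHom e.symm.toRingEquiv.toRingHom from
        CommRingCat.hom_ext (RingHom.ext fun x => (e.symm.commutes x).symm)]
    exact EF_comp hb (EF_of_iso (RingEquiv.toCommRingCatIso e.symm.toRingEquiv).hom)⟩
  let S : Finset (Discrete Idx) := {⟨q⟩}
  let a₀ : F.obj ⟨q⟩ ⟶ G.obj S :=
    Sigma.ι (fun x : S => F.obj x) ⟨⟨q⟩, Finset.mem_singleton_self _⟩
  let a : F.obj ⟨q⟩ ⟶ colimit G := a₀ ≫ colimit.ι G S
  refine ⟨CommRingCat.ofHom e.symm.toRingEquiv.toRingHom ≫ a.right, ?_⟩
  rw [← Category.assoc]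
  refine Eq.trans ?_ (Under.w a)
  congr 1
  exact CommRingCat.hom_ext (RingHom.ext fun x => e.symm.commutes x)

/-- Every ring has a faithfully flat ind-étale extension with étale retractions. -/
theorem exists_hasEtaleRetractions (A : Type u) [CommRing A] :
    ∃ (C : Type u) (_ : CommRing C) (_ : Algebra A C),
      Module.FaithfullyFlat A C ∧ EtPBC.IsIndEtale A C ∧ ProEtW.HasEtaleRetractions C := by
  choose X' i hi hr using exists_step.{u}
  let obj : ℕ → CommRingCat.{u} := fun n => Nat.rec (CommRingCat.of A) (fun _ X => X' X) n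
  let D₀ : ℕ ⥤ CommRingCat.{u} := Functor.ofSequence (X := obj) fun n => i (obj n)
  have hDi : ∀ n, D₀.map (homOfLE (Nat.le_add_right n 1)) = i (obj n) := fun n =>
    Functor.ofSequence_map_homOfLE_succ _ n
  let dn : ULift.{u} ℕ ⥤ ℕ := Monotone.functor (f := ULift.down) (fun _ _ h => h)
  let D : ULift.{u} ℕ ⥤ CommRingCat.{u} := dn ⋙ D₀
  have hs : ∀ n, MorphismProperty.ind.{u} E (D₀.map (homOfLE (Nat.zero_le n))) ∧
      FF (D₀.map (homOfLE (Nat.zero_le n))) := by
    intro n
    induction n with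
    | zero =>
      rw [show homOfLE (Nat.zero_le 0) = 𝟙 0 from rfl, D₀.map_id]
      exact ⟨MorphismProperty.le_ind E _ (EF_of_iso _).1, (EF_of_iso _).2⟩
    | succ n ih =>
      rw [← homOfLE_comp (Nat.zero_le n) (Nat.le_add_right n 1), D₀.map_comp, hDi]
      obtain ⟨J, _, _, Dn, s, t, ht, h⟩ := hi (obj n)
      exact ⟨IndEtaleOps.ind_comp _ _ ih.1 ⟨J, inferInstance, inferInstance, Dn, s, t, ht, fun j => ⟨(h j).1.1, (h j).2⟩⟩,
        RingHom.FaithfullyFlat.stableUnderComposition _ _ ih.2 (ind_EF_ff (hi (obj n)))⟩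
  let s : (Functor.const (ULift.{u} ℕ)).obj (CommRingCat.of A) ⟶ D :=
    { app := fun n => D₀.map (homOfLE (Nat.zero_le n.down))
      naturality := fun n m a => by
        show 𝟙 _ ≫ D₀.map (homOfLE (Nat.zero_le m.down)) = D₀.map (homOfLE (Nat.zero_le n.down)) ≫ D₀.map (dn.map a)
        exact (Category.id_comp _).trans ((congrArg D₀.map (Subsingleton.elim _
          (homOfLE (Nat.zero_le n.down) ≫ dn.map a))).trans (D₀.map_comp _ _)) }
  let c := colimit.cocone D
  let hc : IsColimit c := colimit.isColimit D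
  let f : CommRingCat.of A ⟶ c.pt := s.app ⟨0⟩ ≫ c.ι.app ⟨0⟩
  have hsf : ∀ n, s.app n ≫ c.ι.app n = f := fun n => by
    have h1 := c.w (homOfLE (show (⟨0⟩ : ULift.{u} ℕ) ≤ n from Nat.zero_le n.down))
    have h2 := s.naturality (homOfLE (show (⟨0⟩ : ULift.{u} ℕ) ≤ n from Nat.zero_le n.down))
    simp only [Functor.const_obj_obj, Functor.const_obj_map, Category.id_comp] at h2
    show s.app n ≫ c.ι.app n = s.app ⟨0⟩ ≫ c.ι.app ⟨0⟩
    rw [← h1, ← Category.assoc, ← h2]
  have hind : MorphismProperty.ind.{u} E f :=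
    IndEtaleOps.ind_of_ind_ind ⟨_, inferInstance, inferInstance, D, s, c.ι, hc, fun n => ⟨(hs n.down).1, hsf n⟩⟩
  have hff : FF f := faithfullyFlat_of_colim hc s f (fun n => ⟨(hs n.down).2, hsf n⟩) (flat_of_ind hind)
  letI : Algebra A c.pt := f.hom.toAlgebra
  refine ⟨c.pt, inferInstance, inferInstance, RingHom.faithfullyFlat_algebraMap_iff.1 hff,
    (IndEtaleOps.isIndEtale_iff A c.pt).2 hind, ?_⟩
  intro B _ _ hBff hBet
  let b : c.pt ⟶ CommRingCat.of B := CommRingCat.ofHom (algebraMap c.pt B)
  obtain ⟨j, T', f', g, hp, hf'⟩ := IndEtaleOps.exists_isPushout hc b (RingHom.etale_algebraMap.2 hBet)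
  obtain ⟨I, hI⟩ := (PrimeSpectrum.isClosed_iff_zeroLocus_ideal _).1 (isOpen_range_comap hf').isClosed_compl
  have hsurj : Function.Surjective (PrimeSpectrum.comap b.hom) :=
    PrimeSpectrum.comap_surjective_of_faithfullyFlat
  have hItop : I.map (c.ι.app j).hom = ⊤ := by
    rw [← PrimeSpectrum.zeroLocus_empty_iff_eq_top, Set.eq_empty_iff_forall_notMem]
    intro q hq
    obtain ⟨Q, rfl⟩ := hsurj q
    have h1 : PrimeSpectrum.comap (c.ι.app j).hom (PrimeSpectrum.comap b.hom Q) ∈ PrimeSpectrum.zeroLocus (I : Set (D.obj j)) :=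
      Ideal.map_le_iff_le_comap.1 hq
    rw [← hI] at h1
    apply h1
    refine ⟨PrimeSpectrum.comap g.hom Q, ?_⟩
    rw [← PrimeSpectrum.comap_comp_apply, ← PrimeSpectrum.comap_comp_apply, ← CommRingCat.hom_comp,
      ← CommRingCat.hom_comp, hp.w]
  obtain ⟨k, hk⟩ := exists_map_eq_top
    ((Functor.Final.isColimitWhiskerEquiv (Under.forget j) c).symm hc) I
    { app := fun k => D.map k.hom
      naturality := fun k l a => by
        show 𝟙 _ ≫ D.map l.hom = D.map k.hom ≫ D.map a.right
        rw [Category.id_comp, ← D.map_comp, Under.w a] }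
    (c.ι.app j) (fun k => c.w k.hom) hItop
  have hk' : I.map (D.map k.hom).hom = ⊤ := hk
  have hEF : EF (pushout.inl (D.map k.hom) f') := by
    refine ⟨MorphismProperty.pushout_inl _ _ hf', RingHom.FaithfullyFlat.iff_flat_and_comap_surjective.2
      ⟨(RingHom.Etale.iff_flat_and_formallyUnramified.1 (MorphismProperty.pushout_inl (P := E) (D.map k.hom) f' hf')).1, fun q => ?_⟩⟩
    refine mem_range_comap_of_isPushout (IsPushout.of_hasPushout (D.map k.hom) f') q ?_
    by_contra hnot
    rw [← Set.mem_compl_iff, hI] at hnot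
    exact q.isPrime.ne_top (top_le_iff.1 (hk'.ge.trans (Ideal.map_le_iff_le_comap.2 hnot)))
  obtain ⟨r, hr'⟩ := hr (obj k.right.down) _ (pushout.inl (D.map k.hom) f') hEF
  let k' : ULift.{u} ℕ := ⟨k.right.down + 1⟩
  let e : pushout (D.map k.hom) f' ⟶ c.pt := r ≫ c.ι.app k'
  have he : pushout.inl (D.map k.hom) f' ≫ e = c.ι.app k.right := by
    rw [← c.w (homOfLE (show k.right ≤ k' from Nat.le_add_right _ 1))]
    show pushout.inl _ _ ≫ r ≫ _ = D₀.map (homOfLE (Nat.le_add_right _ 1)) ≫ _
    rw [hDi]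
    exact (Category.assoc _ _ _).symm.trans (congrArg (· ≫ c.ι.app k') hr')
  let ρ := hp.desc (𝟙 c.pt) (pushout.inr _ _ ≫ e) (by
    exact (Category.comp_id _).trans ((c.w k.hom).symm.trans
      ((congrArg (D.map k.hom ≫ ·) he.symm).trans (pushout.condition_assoc e))))
  refine ⟨{ ρ.hom with commutes' := fun x => ?_ }⟩
  exact RingHom.congr_fun (congrArg CommRingCat.Hom.hom (hp.inl_desc (𝟙 c.pt) (pushout.inr _ _ ≫ e) _)) x

end Groth.Agent.EtRetr
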