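import Groth.Agent.EtRetr.Surj
import Groth.Prelude.Def_ProEtW
import Mathlib.RingTheory.Etale.Pi
import Mathlib.RingTheory.Localization.Away.Basic
import Mathlib.RingTheory.LocalIso

/-!
Localizations as filtered colimits; étale retractions pass to semilocalizations.
-/

set_option autoImplicit false
set_option linter.style.haveILetI false

universe u

open CategoryTheory CategoryTheory.Limits

namespace Groth.Agent.EtRetr

variable {A : Type u} [CommRing A]

/-- Elements of a submonoid ordered by divisibility. -/
structure DvdIdx (S : Submonoid A) where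
  /-- The element. -/
  val : A
  mem : val ∈ S

namespace DvdIdx

variable {S : Submonoid A}

instance : Preorder (DvdIdx S) where
  le s t := s.val ∣ t.val
  le_refl s := dvd_refl _
  le_trans _ _ _ := dvd_trans

instance : Nonempty (DvdIdx S) := ⟨⟨1, S.one_mem⟩⟩

instance : IsDirectedOrder (DvdIdx S) :=
  ⟨fun s t => ⟨⟨s.val * t.val, S.mul_mem s.mem t.mem⟩, dvd_mul_right _ _, dvd_mul_left _ _⟩⟩

theorem isUnit {s t : DvdIdx S} (h : s ≤ t) :
    IsUnit (algebraMap A (Localization.Away t.val) s.val) :=
  isUnit_of_dvd_unit (map_dvd _ h) (IsLocalization.Away.algebraMap_isUnit t.val)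

theorem hom_ext (s : DvdIdx S) {R : Type u} [CommRing R] {f g : Localization.Away s.val →+* R}
    (h : f.comp (algebraMap A _) = g.comp (algebraMap A _)) : f = g :=
  IsLocalization.ringHom_ext (Submonoid.powers s.val) h

/-- The transition map. -/
noncomputable def trans {s t : DvdIdx S} (h : s ≤ t) : Localization.Away s.val →+* Localization.Away t.val :=
  IsLocalization.Away.lift s.val (isUnit h)

theorem trans_comp {s t : DvdIdx S} (h : s ≤ t) :
    (trans h).comp (algebraMap A (Localization.Away s.val)) = algebraMap A (Localization.Away t.val) :=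
  IsLocalization.Away.lift_comp _ _

variable (S)

/-- The diagram of localizations away from elements of a submonoid. -/
noncomputable def diagram : DvdIdx S ⥤ Under (CommRingCat.of A) where
  obj s := Under.mk (CommRingCat.ofHom (algebraMap A (Localization.Away s.val)))
  map h := Under.homMk (CommRingCat.ofHom (trans (leOfHom h))) (CommRingCat.hom_ext (trans_comp (leOfHom h)))
  map_id s := Under.UnderMorphism.ext (CommRingCat.hom_ext (hom_ext s (trans_comp (le_refl s))))
  map_comp {s t w} f g := Under.UnderMorphism.ext (CommRingCat.hom_ext (hom_ext s ((trans_comp (leOfHom (f ≫ g))).trans (by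
    show _ = ((trans (leOfHom g)).comp (trans (leOfHom f))).comp _
    rw [RingHom.comp_assoc, trans_comp, trans_comp]))))

variable (B : Type u) [CommRing B] [Algebra A B] [IsLocalization S B]

/-- The leg into the localization. -/
noncomputable def leg (s : DvdIdx S) : Localization.Away s.val →+* B :=
  IsLocalization.Away.lift s.val (IsLocalization.map_units B (⟨s.val, s.mem⟩ : S))

theorem leg_comp (s : DvdIdx S) : (leg S B s).comp (algebraMap A (Localization.Away s.val)) = algebraMap A B :=
  IsLocalization.Away.lift_comp _ _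

/-- The localization as a cocone. -/
noncomputable def cocone : Cocone (diagram S) where
  pt := Under.mk (CommRingCat.ofHom (algebraMap A B))
  ι :=
    { app := fun s => Under.homMk (CommRingCat.ofHom (leg S B s)) (CommRingCat.hom_ext (leg_comp S B s))
      naturality := fun s t f => Under.UnderMorphism.ext (CommRingCat.hom_ext (hom_ext s (by
        show ((leg S B t).comp (trans (leOfHom f))).comp _ = (leg S B s).comp _
        rw [RingHom.comp_assoc, trans_comp, leg_comp, leg_comp]))) }

/-- A localization is the filtered colimit of localizations away from elements. -/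
noncomputable def isColimit : IsColimit (cocone S B) where
  desc s := Under.homMk (CommRingCat.ofHom (IsLocalization.lift (M := S) (S := B) (g := s.pt.hom.hom) fun x => by
      have h1 : s.pt.hom.hom x.1 = (s.ι.app ⟨x.1, x.2⟩).right.hom
          (algebraMap A (Localization.Away x.1) x.1) :=
        (RingHom.congr_fun (congrArg CommRingCat.Hom.hom (Under.w (s.ι.app ⟨x.1, x.2⟩))) x.1).symm
      rw [h1]
      exact (IsLocalization.Away.algebraMap_isUnit (S := Localization.Away x.1) x.1).map _))
    (CommRingCat.hom_ext (IsLocalization.lift_comp (M := S) (S := B) _))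
  fac s j := Under.UnderMorphism.ext (CommRingCat.hom_ext (hom_ext j (by
    show (RingHom.comp _ (leg S B j)).comp _ = _
    refine (RingHom.comp_assoc _ _ _).trans ((congrArg (RingHom.comp _) (leg_comp S B j)).trans ?_)
    exact (IsLocalization.lift_comp (M := S) (S := B) _).trans
      (congrArg CommRingCat.Hom.hom (Under.w (s.ι.app j))).symm)))
  uniq s m _ := Under.UnderMorphism.ext (CommRingCat.hom_ext
    (IsLocalization.ringHom_ext (S := B) S
      ((congrArg CommRingCat.Hom.hom (Under.w m)).trans (IsLocalization.lift_comp (M := S) (S := B) _).symm)))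

end DvdIdx

/-- A localization is ind-Zariski. -/
theorem isIndZariski_of_isLocalization (S : Submonoid A) (B : Type u) [CommRing B] [Algebra A B]
    [IsLocalization S B] : EtPBC.IsIndZariski A B := by
  refine ⟨DvdIdx S, inferInstance, inferInstance, DvdIdx.diagram S, DvdIdx.cocone S B, DvdIdx.isColimit S B,
    fun j => ?_, ⟨Iso.refl _⟩⟩
  show @Algebra.IsLocalIso A (Localization.Away j.val) _ _ (algebraMap A (Localization.Away j.val)).toAlgebra
  rw [show (algebraMap A (Localization.Away j.val)).toAlgebra = OreLocalization.instAlgebra from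
    Algebra.algebra_ext _ _ fun r => rfl]
  have : Algebra.IsStandardOpenImmersion A (Localization.Away j.val) := ⟨⟨j.val, inferInstance⟩⟩
  infer_instance

/-- An étale algebra covering `V(I)` has a point in any algebra with `I` in its Jacobson radical. -/
theorem exists_hom_of_covers (h : ProEtW.HasEtaleRetractions A) (I : Ideal A) (B : Type u) [CommRing B]
    [Algebra A B] [Algebra.Etale A B]
    (hcov : PrimeSpectrum.zeroLocus (I : Set A) ⊆ Set.range (PrimeSpectrum.comap (algebraMap A B)))
    (R : Type u) [CommRing R] [Algebra A R] (hIR : I.map (algebraMap A R) ≤ Ideal.jacobson ⊥) :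
    Nonempty (B →ₐ[A] R) := by
  classical
  obtain ⟨J, hJ⟩ := (PrimeSpectrum.isClosed_iff_zeroLocus_ideal _).1
    (isOpen_range_comap (X := CommRingCat.of A) (T := CommRingCat.of B)
      (b := CommRingCat.ofHom (algebraMap A B)) (RingHom.etale_algebraMap.2 inferInstance)).isClosed_compl
  obtain ⟨g, hgI, i, hi, hgi⟩ : ∃ g ∈ I, ∃ i ∈ J, g + i = 1 := by
    have htop : I ⊔ J = ⊤ := by
      rw [← PrimeSpectrum.zeroLocus_empty_iff_eq_top, PrimeSpectrum.zeroLocus_sup, Set.eq_empty_iff_forall_notMem]
      rintro q ⟨hqI, hqJ⟩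
      rw [← hJ] at hqJ
      exact hqJ (hcov hqI)
    obtain ⟨g, hg, i, hi, hgi⟩ := Submodule.mem_sup.1 (htop ▸ Submodule.mem_top : (1 : A) ∈ I ⊔ J)
    exact ⟨g, hg, i, hi, hgi⟩
  let F : Bool → Type u := fun b => cond b B (Localization.Away g)
  letI : ∀ b, CommRing (F b) := fun b => by cases b <;> (dsimp [F]; infer_instance)
  letI : ∀ b, Algebra A (F b) := fun b => by cases b <;> (dsimp [F]; infer_instance)
  haveI : ∀ b, Algebra.Etale A (F b) := fun b => by
    cases b
    · exact Algebra.Etale.of_isLocalizationAway (A := Localization.Away g) g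
    · exact (inferInstance : Algebra.Etale A B)
  have hff : Module.FaithfullyFlat A (Π b, F b) := Module.FaithfullyFlat.of_comap_surjective fun q => by
    by_cases hq : g ∈ q.asIdeal
    · have hq' : ¬ J ≤ q.asIdeal := fun hle =>
        q.isPrime.ne_top ((Ideal.eq_top_iff_one _).2 (hgi ▸ add_mem hq (hle hi)))
      have hmem : q ∈ Set.range (PrimeSpectrum.comap (algebraMap A B)) := by
        by_contra hnot
        rw [← Set.mem_compl_iff] at hnot
        exact hq' (hJ.subset hnot)
      obtain ⟨Q, rfl⟩ := hmem
      exact ⟨PrimeSpectrum.comap (Pi.evalRingHom F true) Q, by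
        rw [← PrimeSpectrum.comap_comp_apply]; rfl⟩
    · obtain ⟨Q, rfl⟩ : q ∈ Set.range (PrimeSpectrum.comap (algebraMap A (Localization.Away g))) := by
        rw [PrimeSpectrum.localization_away_comap_range (Localization.Away g) g]
        exact hq
      exact ⟨PrimeSpectrum.comap (Pi.evalRingHom F false) Q, by
        rw [← PrimeSpectrum.comap_comp_apply]; rfl⟩
  obtain ⟨τ⟩ := h (Π b, F b) hff inferInstance
  let τ' : (Π b, F b) →ₐ[A] R := (Algebra.ofId A _).comp τ
  let e : Π b, F b := Pi.single false 1
  have he0 : τ' e = 0 := by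
    let y : Π b, F b := Pi.single false (IsLocalization.Away.invSelf (S := Localization.Away g) g)
    have hy : algebraMap A (Π b, F b) g * y = e := by
      ext b
      cases b
      · simp only [Pi.mul_apply, y, e, Pi.single_eq_same, Pi.algebraMap_apply]
        exact IsLocalization.Away.mul_invSelf (S := Localization.Away g) g
      · simp [y, e]
    have hmem : τ' e ∈ Ideal.jacobson (⊥ : Ideal R) := by
      rw [← hy, map_mul, AlgHom.commutes]
      exact Ideal.mul_mem_right _ _ (hIR (Ideal.mem_map_of_mem _ hgI))
    have hidem : τ' e * τ' e = τ' e := by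
      rw [← map_mul, ← Pi.single_mul, one_mul]
    have hu := Ideal.mem_jacobson_bot.1 hmem (-1)
    exact hu.mul_left_eq_zero.1 (show τ' e * (τ' e * -1 + 1) = 0 by linear_combination -hidem)
  refine ⟨AlgHom.ofLinearMap (τ'.toLinearMap ∘ₗ LinearMap.single A F true) ?_ ?_⟩
  · show τ' (Pi.single true 1) = 1
    have h1 : (Pi.single true 1 + e : Π b, F b) = 1 := by ext b; cases b <;> simp [e]
    rw [← map_one τ', ← h1, map_add, he0, add_zero]
  · intro x y
    show τ' (Pi.single true (x * y)) = τ' (Pi.single true x) * τ' (Pi.single true y)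
    rw [Pi.single_mul, map_mul]

/-- Étale retractions pass to semilocalizations. -/
theorem hasEtaleRetractions_semilocal (B : Type u) [CommRing B]
    [Algebra A B] (S : Submonoid A) [IsLocalization S B] (I : Ideal A)
    (hB : Set.range (PrimeSpectrum.comap (algebraMap A B)) =
      {x | ∃ z : PrimeSpectrum A, z ∈ PrimeSpectrum.zeroLocus (R := A) I ∧ x ⤳ z})
    (hA : ProEtW.HasEtaleRetractions A) : ProEtW.HasEtaleRetractions B := by
  intro C _ _ hCff hCet
  let c := (CategoryTheory.Under.forget _).mapCocone (DvdIdx.cocone S B)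
  let hc : IsColimit c := isColimitOfPreserves _ (DvdIdx.isColimit S B)
  let b : c.pt ⟶ CommRingCat.of C := CommRingCat.ofHom (algebraMap B C)
  obtain ⟨s, T', f', g, hp, hf'⟩ := IndEtaleOps.exists_isPushout hc b (RingHom.etale_algebraMap.2 hCet : (algebraMap B C).Etale)
  let a : CommRingCat.of A ⟶ T' := CommRingCat.ofHom (algebraMap A (Localization.Away s.val)) ≫ f'
  have ha : IndEtaleOps.E a := IndEtaleOps.E_comp
    (RingHom.etale_algebraMap.2 (Algebra.Etale.of_isLocalizationAway (A := Localization.Away s.val) s.val)) hf'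
  letI : Algebra A T' := a.hom.toAlgebra
  haveI : Algebra.Etale A T' := ha
  have hfac : CommRingCat.ofHom (algebraMap A B) ≫ b = a ≫ g := by
    show _ = (CommRingCat.ofHom (algebraMap A (Localization.Away s.val)) ≫ f') ≫ g
    exact (congrArg (· ≫ b) (Under.w ((DvdIdx.cocone S B).ι.app s)).symm).trans ((Category.assoc _ _ _).trans
      ((congrArg (CommRingCat.ofHom (algebraMap A (Localization.Away s.val)) ≫ ·) hp.w).trans
        (Category.assoc _ _ _).symm))
  have hcov : PrimeSpectrum.zeroLocus (I : Set A) ⊆ Set.range (PrimeSpectrum.comap (algebraMap A T')) := by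
    intro z hz
    obtain ⟨P, rfl⟩ := hB.symm.subset ⟨z, hz, specializes_rfl⟩
    obtain ⟨Q, rfl⟩ := (PrimeSpectrum.comap_surjective_of_faithfullyFlat (A := B) (B := C)) P
    refine ⟨PrimeSpectrum.comap g.hom Q, ?_⟩
    rw [← PrimeSpectrum.comap_comp_apply, ← PrimeSpectrum.comap_comp_apply]
    exact congrArg (fun φ : CommRingCat.of A ⟶ CommRingCat.of C => PrimeSpectrum.comap φ.hom Q) hfac.symm
  have hjac : I.map (algebraMap A B) ≤ Ideal.jacobson (⊥ : Ideal B) := by
    refine le_sInf fun M hM => ?_
    obtain ⟨-, hM⟩ := hM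
    obtain ⟨z, hz, hspec⟩ := hB.subset ⟨(⟨M, hM.isPrime⟩ : PrimeSpectrum B), rfl⟩
    obtain ⟨P, rfl⟩ := hB.symm.subset ⟨z, hz, specializes_rfl⟩
    rw [← PrimeSpectrum.le_iff_specializes] at hspec
    have hle : M ≤ P.asIdeal :=
      (IsLocalization.map_comap S B M).symm.le.trans ((Ideal.map_mono hspec).trans (IsLocalization.map_comap S B P.asIdeal).le)
    obtain rfl : M = P.asIdeal := hM.eq_of_le P.isPrime.ne_top hle
    exact Ideal.map_le_iff_le_comap.2 hz
  obtain ⟨σ⟩ := exists_hom_of_covers hA I T' hcov B hjac
  let σ' : T' ⟶ CommRingCat.of B := CommRingCat.ofHom σ.toRingHom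
  have hw : c.ι.app s = f' ≫ σ' := CommRingCat.hom_ext (DvdIdx.hom_ext s (by
    refine (congrArg CommRingCat.Hom.hom (Under.w ((DvdIdx.cocone S B).ι.app s))).trans ?_
    exact σ.comp_algebraMap.symm))
  let ρ := hp.desc (𝟙 c.pt) σ' ((Category.comp_id _).trans hw)
  refine ⟨{ ρ.hom with commutes' := fun x => ?_ }⟩
  exact RingHom.congr_fun (congrArg CommRingCat.Hom.hom (hp.inl_desc (𝟙 c.pt) σ' _)) x

end Groth.Agent.EtRetr
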