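import Groth.Agent.EtRetr.Surj
import Groth.Prelude.Def_EtBase
import Groth.Prelude.Def_ProEtW
import Mathlib.RingTheory.Etale.StandardEtale
import Mathlib.RingTheory.Etale.Pi
import Mathlib.RingTheory.Polynomial.ScaleRoots
import Mathlib.FieldTheory.IsSepClosed

/-!
Local rings at closed points of rings with étale retractions are strictly henselian.
-/

set_option autoImplicit false
set_option linter.style.haveILetI false

universe u

open Polynomial

namespace Groth.Agent.EtRetr

variable {A : Type u} [CommRing A] (h : ProEtW.HasEtaleRetractions A) (m : Ideal A) [m.IsMaximal]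

include h

/-- An étale algebra with a prime over a closed point has a point at the localization there. -/
theorem exists_hom_localization (B : Type u) [CommRing B] [Algebra A B] [Algebra.Etale A B]
    (P : PrimeSpectrum B) (hP : (PrimeSpectrum.comap (algebraMap A B) P).asIdeal = m) :
    Nonempty (B →ₐ[A] Localization.AtPrime m) := by
  classical
  obtain ⟨I, hI⟩ := (PrimeSpectrum.isClosed_iff_zeroLocus_ideal _).1
    (isOpen_range_comap (X := CommRingCat.of A) (T := CommRingCat.of B)
      (b := CommRingCat.ofHom (algebraMap A B)) (RingHom.etale_algebraMap.2 inferInstance)).isClosed_compl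
  have hIm : ¬ I ≤ m := fun hle => by
    have : PrimeSpectrum.comap (algebraMap A B) P ∈ PrimeSpectrum.zeroLocus (I : Set A) :=
      (PrimeSpectrum.mem_zeroLocus _ _).2 (by rw [hP]; exact hle)
    rw [← hI] at this
    exact this ⟨P, rfl⟩
  obtain ⟨g, hgm, i, hi, hgi⟩ : ∃ g ∈ m, ∃ i ∈ I, g + i = 1 := by
    have htop : m ⊔ I = ⊤ := (‹m.IsMaximal›).1.2 _ (lt_of_le_not_ge le_sup_left fun hle => hIm (le_sup_right.trans hle))
    obtain ⟨g, hg, i, hi, hgi⟩ := Submodule.mem_sup.1 (htop ▸ Submodule.mem_top : (1 : A) ∈ m ⊔ I)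
    exact ⟨g, hg, i, hi, hgi⟩
  let F : Bool → Type u := fun b => cond b B (Localization.Away g)
  letI : ∀ b, CommRing (F b) := fun b => by cases b <;> (dsimp [F]; infer_instance)
  letI : ∀ b, Algebra A (F b) := fun b => by cases b <;> (dsimp [F]; infer_instance)
  haveI : ∀ b, Algebra.Etale A (F b) := fun b => by
    cases b
    · exact Algebra.Etale.of_isLocalizationAway (A := Localization.Away g) g
    · exact (inferInstance : Algebra.Etale A B)
  have hff : Module.FaithfullyFlat A (Π b, F b) := Module.FaithfullyFlat.of_comap_surjective fun q => by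
    by_cases hq : g ∈ q.asIdeal
    · have hq' : ¬ I ≤ q.asIdeal := fun hle =>
        q.isPrime.ne_top ((Ideal.eq_top_iff_one _).2 (hgi ▸ add_mem hq (hle hi)))
      have hmem : q ∈ Set.range (PrimeSpectrum.comap (algebraMap A B)) := by
        by_contra hnot
        rw [← Set.mem_compl_iff] at hnot
        exact hq' (hI.subset hnot)
      obtain ⟨Q, rfl⟩ := hmem
      exact ⟨PrimeSpectrum.comap (Pi.evalRingHom F true) Q, by
        rw [← PrimeSpectrum.comap_comp_apply]; rfl⟩
    · obtain ⟨Q, rfl⟩ : q ∈ Set.range (PrimeSpectrum.comap (algebraMap A (Localization.Away g))) := by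
        rw [PrimeSpectrum.localization_away_comap_range (Localization.Away g) g]
        exact hq
      exact ⟨PrimeSpectrum.comap (Pi.evalRingHom F false) Q, by
        rw [← PrimeSpectrum.comap_comp_apply]; rfl⟩
  obtain ⟨τ⟩ := h (Π b, F b) hff inferInstance
  let τ' : (Π b, F b) →ₐ[A] Localization.AtPrime m := (Algebra.ofId A _).comp τ
  let e : Π b, F b := Pi.single false 1
  have he0 : τ' e = 0 := by
    let y : Π b, F b := Pi.single false (IsLocalization.Away.invSelf (S := Localization.Away g) g)
    have hy : algebraMap A (Π b, F b) g * y = e := by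
      ext b
      cases b
      · simp only [Pi.mul_apply, y, e, Pi.single_eq_same, Pi.algebraMap_apply]
        exact IsLocalization.Away.mul_invSelf (S := Localization.Away g) g
      · simp [y, e]
    have hmem : τ' e ∈ IsLocalRing.maximalIdeal (Localization.AtPrime m) := by
      rw [← hy, map_mul, AlgHom.commutes]
      refine Ideal.mul_mem_right _ _ ?_
      rw [← Localization.AtPrime.map_eq_maximalIdeal]
      exact Ideal.mem_map_of_mem _ hgm
    have hidem : IsIdempotentElem (τ' e) := by
      show τ' e * τ' e = τ' e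
      rw [← map_mul, ← Pi.single_mul, one_mul]
    exact ((IsLocalRing.isUnit_one_sub_self_of_mem_nonunits _ ((IsLocalRing.mem_maximalIdeal _).1 hmem)).mul_left_eq_zero).1
      (by rw [mul_sub, mul_one, hidem.eq, sub_self])
  refine ⟨AlgHom.ofLinearMap (τ'.toLinearMap ∘ₗ LinearMap.single A F true) ?_ ?_⟩
  · show τ' (Pi.single true 1) = 1
    have h1 : (Pi.single true 1 + e : Π b, F b) = 1 := by ext b; cases b <;> simp [e]
    rw [← map_one τ', ← h1, map_add, he0, add_zero]
  · intro x y
    show τ' (Pi.single true (x * y)) = τ' (Pi.single true x) * τ' (Pi.single true y)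
    rw [Pi.single_mul, map_mul]

/-- Simple roots of polynomials over the localization lift. -/
theorem exists_root (f q : (Localization.AtPrime m)[X]) (hf : f.Monic)
    {L : Type u} [Field L] [Algebra (IsLocalRing.ResidueField (Localization.AtPrime m)) L] (x : L)
    (hx : aeval x (f.map (IsLocalRing.residue _)) = 0)
    (hgx : aeval x ((derivative f * q).map (IsLocalRing.residue _)) ≠ 0) :
    ∃ a : Localization.AtPrime m, f.eval a = 0 ∧ IsUnit ((derivative f * q).eval a) := by
  classical
  let R := Localization.AtPrime m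
  let ι : A →+* R := algebraMap A R
  obtain ⟨s, hs⟩ := IsLocalization.exist_integer_multiples m.primeCompl (f.coeffs ∪ q.coeffs) id
  have hsu : IsUnit (ι s) := IsLocalization.map_units R s
  have hint : ∀ c ∈ f.coeffs ∪ q.coeffs, ∀ k, ι s ^ (k + 1) * c ∈ ι.range := fun c hc k => by
    obtain ⟨a, ha⟩ := hs c hc
    exact ⟨(s : A) ^ k * a, by
      rw [map_mul, map_pow, show ι a = _ from ha, id, Algebra.smul_def, pow_succ, mul_assoc]⟩
  have hfl : f.scaleRoots (ι s) ∈ Polynomial.lifts ι := by
    rw [Polynomial.lifts_iff_coeff_lifts]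
    intro n
    rw [coeff_scaleRoots]
    rcases lt_trichotomy n f.natDegree with hn | hn | hn
    · by_cases hc : f.coeff n = 0
      · exact ⟨0, by simp [hc]⟩
      · obtain ⟨k, hk⟩ := Nat.exists_eq_add_of_lt hn
        rw [show f.natDegree - n = k + 1 by omega, mul_comm]
        exact hint _ (Finset.mem_union_left _ (coeff_mem_coeffs hc)) k
    · exact ⟨1, by simp [hn, hf.coeff_natDegree]⟩
    · exact ⟨0, by simp [coeff_eq_zero_of_natDegree_lt hn]⟩
  have hql : C (ι s) * q.scaleRoots (ι s) ∈ Polynomial.lifts ι := by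
    rw [Polynomial.lifts_iff_coeff_lifts]
    intro n
    rw [coeff_C_mul, coeff_scaleRoots, mul_comm, mul_assoc, ← pow_succ, mul_comm]
    by_cases hc : q.coeff n = 0
    · exact ⟨0, by simp [hc]⟩
    · exact hint _ (Finset.mem_union_right _ (coeff_mem_coeffs hc)) _
  obtain ⟨F, hF, -, hFm⟩ := Polynomial.lifts_and_natDegree_eq_and_monic hfl ((monic_scaleRoots_iff _).2 hf)
  obtain ⟨Q, hQ⟩ := (Polynomial.mem_lifts _).1 hql
  let P : StandardEtalePair A :=
    { f := F, monic_f := hFm, g := derivative F * Q, cond := ⟨Q, 0, 1, by ring⟩ }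
  have key : ∀ {S : Type u} [CommRing S] (φ : R →+* S) (z : S),
      (F.eval₂ (φ.comp ι) (φ (ι s) * z) = φ (ι s) ^ f.natDegree * f.eval₂ φ z) ∧
      (φ (ι s) * (derivative F).eval₂ (φ.comp ι) (φ (ι s) * z) = φ (ι s) ^ f.natDegree * (derivative f).eval₂ φ z) ∧
      (Q.eval₂ (φ.comp ι) (φ (ι s) * z) = φ (ι s) ^ (q.natDegree + 1) * q.eval₂ φ z) := by
    intro S _ φ z
    refine ⟨?_, ?_, ?_⟩
    · rw [← eval₂_map, hF, scaleRoots_eval₂_mul]
    · rw [← eval₂_map, ← derivative_map, hF, eval₂_eq_sum_range' φ (n := f.natDegree + 1)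
        ((natDegree_derivative_le _).trans_lt (by rw [natDegree_scaleRoots]; omega)),
        eval₂_eq_sum_range' φ (n := f.natDegree + 1) ((natDegree_derivative_le _).trans_lt (by omega)),
        Finset.mul_sum, Finset.mul_sum]
      refine Finset.sum_congr rfl fun i hi => ?_
      rw [coeff_derivative, coeff_derivative, coeff_scaleRoots]
      rw [Finset.mem_range] at hi
      rcases Nat.lt_or_ge i f.natDegree with hi' | hi'
      · obtain ⟨d, hd⟩ := Nat.exists_eq_add_of_lt hi'
        rw [show f.natDegree - (i + 1) = d by omega, hd]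
        simp only [map_mul, map_pow, mul_pow]
        ring
      · rw [coeff_eq_zero_of_natDegree_lt (show f.natDegree < i + 1 by omega)]
        simp
    · rw [← eval₂_map, hQ, eval₂_mul, eval₂_C, scaleRoots_eval₂_mul, pow_succ]
      ring
  let φL : R →+* L := (algebraMap (IsLocalRing.ResidueField R) L).comp (IsLocalRing.residue R)
  letI : Algebra A L := (φL.comp ι).toAlgebra
  have hres : ∀ p : R[X], aeval x (p.map (IsLocalRing.residue R)) = p.eval₂ φL x := fun p => by
    rw [aeval_def, eval₂_map]
  rw [hres] at hx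
  rw [hres, eval₂_mul] at hgx
  have hsL : φL (ι s) ≠ 0 := (hsu.map φL).ne_zero
  obtain ⟨k1, k2, k3⟩ := key φL x
  have hmapL : P.HasMap (φL (ι s) * x) := by
    refine ⟨?_, ?_⟩
    · show aeval _ F = 0
      rw [aeval_def, RingHom.algebraMap_toAlgebra, k1, hx, mul_zero]
    · show IsUnit (aeval _ (derivative F * Q))
      rw [isUnit_iff_ne_zero, map_mul, aeval_def, aeval_def, RingHom.algebraMap_toAlgebra]
      refine mul_ne_zero (right_ne_zero_of_mul (a := φL (ι s)) ?_) ?_
      · rw [k2]; exact mul_ne_zero (pow_ne_zero _ hsL) (left_ne_zero_of_mul hgx)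
      · rw [k3]; exact mul_ne_zero (pow_ne_zero _ hsL) (right_ne_zero_of_mul hgx)
  let ψ : P.Ring →ₐ[A] L := P.lift _ hmapL
  obtain ⟨σ⟩ := exists_hom_localization h m P.Ring ⟨RingHom.ker ψ, RingHom.ker_isPrime _⟩ (by
    show (RingHom.ker ψ.toRingHom).comap (algebraMap A P.Ring) = m
    rw [RingHom.comap_ker, show (RingHom.ker (ψ.toRingHom.comp (algebraMap A P.Ring))) = RingHom.ker (φL.comp ι) from
      congrArg RingHom.ker ψ.comp_algebraMap, ← RingHom.comap_ker (f := φL) (g := ι),
      ← RingHom.comap_ker, (RingHom.injective_iff_ker_eq_bot (algebraMap (IsLocalRing.ResidueField R) L)).1 (algebraMap (IsLocalRing.ResidueField R) L).injective, ← RingHom.ker_eq_comap_bot,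
      IsLocalRing.ker_residue]
    exact Localization.AtPrime.comap_maximalIdeal)
  obtain ⟨a, ha⟩ : ∃ a, ι s * a = σ P.X := ⟨↑hsu.unit⁻¹ * σ P.X, by
    rw [← mul_assoc, IsUnit.mul_val_inv, one_mul]⟩
  obtain ⟨r1, r2, r3⟩ := key (RingHom.id R) a
  have hm := P.hasMap_X.map σ
  simp only [RingHom.id_apply, RingHom.id_comp, ha, eval₂_id] at r1 r2 r3
  obtain ⟨hm1, hm2⟩ := hm
  have hm1' : F.eval₂ ι (σ P.X) = 0 := hm1
  have hm2' : IsUnit ((derivative F).eval₂ ι (σ P.X) * Q.eval₂ ι (σ P.X)) := by
    have := hm2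
    rw [show P.g = derivative F * Q from rfl, map_mul] at this
    exact this
  refine ⟨a, ?_, ?_⟩
  · rw [hm1'] at r1
    exact (hsu.pow _).mul_right_eq_zero.1 r1.symm
  · rw [eval_mul]
    obtain ⟨u1, u2⟩ := IsUnit.mul_iff.1 hm2'
    exact IsUnit.mul (isUnit_of_mul_isUnit_right (r2 ▸ hsu.mul u1)) (isUnit_of_mul_isUnit_right (r3 ▸ u2))

theorem isStrictlyHenselian : EtCoh.IsStrictlyHenselianLocalRing (Localization.AtPrime m) := by
  let R := Localization.AtPrime m
  let k := IsLocalRing.ResidueField R
  refine ⟨⟨fun f hf a₀ h1 h2 => ?_⟩, IsSepClosed.of_exists_root k fun p hp hirr hsep => ?_⟩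
  · obtain ⟨q, hq⟩ : (X - C a₀) ∣ f - C (f.eval a₀) := X_sub_C_dvd_sub_C_eval
    have hf0 : IsLocalRing.residue R (f.eval a₀) = 0 := (IsLocalRing.residue_eq_zero_iff _).2 h1
    have hfac : f.map (IsLocalRing.residue R) = (X - C (IsLocalRing.residue R a₀)) * q.map (IsLocalRing.residue R) := by
      have := congrArg (Polynomial.map (IsLocalRing.residue R)) hq
      simpa [hf0] using this
    have hd : (derivative (f.map (IsLocalRing.residue R))).eval (IsLocalRing.residue R a₀) =
        (q.map (IsLocalRing.residue R)).eval (IsLocalRing.residue R a₀) := by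
      rw [hfac, derivative_mul]; simp
    have hd2 : (derivative (f.map (IsLocalRing.residue R))).eval (IsLocalRing.residue R a₀) ≠ 0 := by
      rw [derivative_map, eval_map_apply, IsLocalRing.residue_ne_zero_iff_isUnit]
      exact h2
    obtain ⟨a, ha, hu⟩ := exists_root h m f q hf (L := k) (IsLocalRing.residue R a₀)
      (by rw [coe_aeval_eq_eval, hfac]; simp)
      (by
        rw [coe_aeval_eq_eval, Polynomial.map_mul, eval_mul, ← derivative_map]
        exact mul_ne_zero hd2 (hd ▸ hd2))
    refine ⟨a, ha, ?_⟩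
    have hqa : (q.map (IsLocalRing.residue R)).eval (IsLocalRing.residue R a) ≠ 0 := by
      rw [eval_map_apply, IsLocalRing.residue_ne_zero_iff_isUnit]
      rw [eval_mul] at hu
      exact (IsUnit.mul_iff.1 hu).2
    have : (IsLocalRing.residue R a - IsLocalRing.residue R a₀) * (q.map (IsLocalRing.residue R)).eval (IsLocalRing.residue R a) = 0 := by
      have h3 := congrArg (Polynomial.eval (IsLocalRing.residue R a)) hfac
      rw [eval_map_apply, ha, map_zero] at h3
      simpa using h3.symm
    rw [← IsLocalRing.residue_eq_zero_iff, map_sub]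
    exact (mul_eq_zero.1 this).resolve_right hqa
  · obtain ⟨f, hf, -, hfm⟩ := Polynomial.lifts_and_natDegree_eq_and_monic
      (Polynomial.mem_lifts p |>.2 (Polynomial.map_surjective _ IsLocalRing.residue_surjective p)) hp
    let L := AlgebraicClosure k
    obtain ⟨x, hx⟩ := IsAlgClosed.exists_aeval_eq_zero L p (degree_pos_of_irreducible hirr).ne'
    obtain ⟨a, ha, -⟩ := exists_root h m f 1 hfm (L := L) x (by rw [hf]; exact hx) (by
      rw [mul_one, ← derivative_map, hf]
      exact hsep.aeval_derivative_ne_zero hx)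
    exact ⟨IsLocalRing.residue R a, by rw [← hf, eval_map_apply, ha, map_zero]⟩

end Groth.Agent.EtRetr
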