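import Groth.Agent.IndEtaleOps.Basic
import Groth.Agent.HenselLib.PairColim
import Mathlib.RingTheory.RingHom.FaithfullyFlat
import Mathlib.RingTheory.Spectrum.Prime.Chevalley
import Mathlib.Algebra.Category.Ring.FilteredColimits
import Mathlib.CategoryTheory.Limits.Types.Filtered

/-!
Faithfully flat étale maps and their filtered colimits.
-/

set_option autoImplicit false
set_option linter.style.haveILetI false

universe u

open CategoryTheory CategoryTheory.Limits
open scoped TensorProduct

namespace Groth.Agent.EtRetr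

open IndEtaleOps (E)

/-- Faithfully flat morphisms of rings. -/
abbrev FF : MorphismProperty CommRingCat.{u} := RingHom.toMorphismProperty RingHom.FaithfullyFlat

instance : FF.{u}.IsStableUnderCobaseChange :=
  RingHom.isStableUnderCobaseChange_toMorphismProperty_iff.2 RingHom.FaithfullyFlat.isStableUnderBaseChange

instance : FF.{u}.RespectsIso :=
  RingHom.toMorphismProperty_respectsIso_iff.1 RingHom.FaithfullyFlat.respectsIso

/-- Faithfully flat étale morphisms of rings. -/
abbrev EF : MorphismProperty CommRingCat.{u} := E ⊓ FF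

theorem EF_comp {X Y Z : CommRingCat.{u}} {a : X ⟶ Y} {b : Y ⟶ Z} (ha : EF a) (hb : EF b) : EF (a ≫ b) :=
  ⟨IndEtaleOps.E_comp ha.1 hb.1, RingHom.FaithfullyFlat.stableUnderComposition a.hom b.hom ha.2 hb.2⟩

theorem EF_of_iso {X Y : CommRingCat.{u}} (f : X ⟶ Y) [IsIso f] : EF f :=
  ⟨RingHom.Etale.of_bijective (ConcreteCategory.bijective_of_isIso f),
    RingHom.FaithfullyFlat.of_bijective (ConcreteCategory.bijective_of_isIso f)⟩

section Colim

variable {J : Type u} [SmallCategory J] [IsFiltered J] {D : J ⥤ CommRingCat.{u}}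
  {c : Cocone D} (hc : IsColimit c)

include hc

theorem exists_rep_eq (j : J) (a b : D.obj j) (h : (c.ι.app j).hom a = (c.ι.app j).hom b) :
    ∃ (k : J) (f : j ⟶ k), (D.map f).hom a = (D.map f).hom b :=
  (Types.FilteredColimit.isColimit_eq_iff' (isColimitOfPreserves (forget CommRingCat.{u}) hc) a b).1 h

theorem exists_rep (x : c.pt) : ∃ (j : J) (a : D.obj j), (c.ι.app j).hom a = x :=
  Types.jointly_surjective _ (isColimitOfPreserves (forget CommRingCat.{u}) hc) x

/-- An ideal generating the unit ideal in a filtered colimit does so at a finite stage. -/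
theorem exists_map_eq_top {X : CommRingCat.{u}} (I : Ideal X) (s : (Functor.const J).obj X ⟶ D)
    (f : X ⟶ c.pt) (hs : ∀ j, s.app j ≫ c.ι.app j = f) (h : I.map f.hom = ⊤) :
    ∃ j, I.map (s.app j).hom = ⊤ := by
  have hn : ∀ {i k : J} (a : i ⟶ k), s.app i ≫ D.map a = s.app k := fun a => by
    have h2 := s.naturality a
    simp only [Functor.const_obj_obj, Functor.const_obj_map, Category.id_comp] at h2
    exact h2.symm
  have hmap : ∀ {i k : J} (a : i ⟶ k) {x : D.obj i}, x ∈ I.map (s.app i).hom →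
      (D.map a).hom x ∈ I.map (s.app k).hom := fun {i k} a {x} hx => by
    have h2 := Ideal.mem_map_of_mem (D.map a).hom hx
    rwa [Ideal.map_map, ← CommRingCat.hom_comp, hn a] at h2
  have hw : ∀ {i k : J} (a : i ⟶ k) (x : D.obj i), (c.ι.app k).hom ((D.map a).hom x) = (c.ι.app i).hom x :=
    fun a x => RingHom.congr_fun (congrArg CommRingCat.Hom.hom (c.w a)) x
  have key : ∀ y ∈ I.map f.hom, ∃ (j : J) (x : D.obj j), x ∈ I.map (s.app j).hom ∧ (c.ι.app j).hom x = y := by
    intro y hy
    rw [Ideal.map] at hy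
    induction hy using Submodule.span_induction with
    | mem y hy =>
      obtain ⟨i, hi, rfl⟩ := hy
      obtain ⟨j⟩ := IsFiltered.nonempty (C := J)
      exact ⟨j, (s.app j).hom i, Ideal.mem_map_of_mem _ hi,
        RingHom.congr_fun (congrArg CommRingCat.Hom.hom (hs j)) i⟩
    | zero =>
      obtain ⟨j⟩ := IsFiltered.nonempty (C := J)
      exact ⟨j, 0, zero_mem _, map_zero _⟩
    | add y z _ _ ihy ihz =>
      obtain ⟨j, x, hx, rfl⟩ := ihy
      obtain ⟨k, x', hx', rfl⟩ := ihz
      refine ⟨IsFiltered.max j k, _, add_mem (hmap (IsFiltered.leftToMax j k) hx) (hmap (IsFiltered.rightToMax j k) hx'), ?_⟩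
      rw [map_add, hw, hw]
    | smul a y _ ihy =>
      obtain ⟨j, x, hx, rfl⟩ := ihy
      obtain ⟨k, a', rfl⟩ := exists_rep hc a
      refine ⟨IsFiltered.max j k, _, Ideal.mul_mem_left _ ((D.map (IsFiltered.rightToMax j k)).hom a')
        (hmap (IsFiltered.leftToMax j k) hx), ?_⟩
      rw [map_mul, hw, hw, smul_eq_mul]
  obtain ⟨j, x, hx, hx1⟩ := key 1 (h ▸ Submodule.mem_top)
  obtain ⟨k, a, hk⟩ := exists_rep_eq hc j x 1 (hx1.trans (map_one _).symm)
  refine ⟨k, (Ideal.eq_top_iff_one _).2 ?_⟩
  simpa [hk] using hmap a hx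

end Colim

theorem flat_of_ind {X Y : CommRingCat.{u}} {f : X ⟶ Y} (hf : MorphismProperty.ind.{u} E f) :
    f.hom.Flat := by
  obtain ⟨J, _, _, D, s, t, ht, h⟩ := hf
  algebraize [f.hom]
  have hn : ∀ {i k : J} (a : i ⟶ k), s.app i ≫ D.map a = s.app k := fun a => by
    have h2 := s.naturality a
    simp only [Functor.const_obj_obj, Functor.const_obj_map, Category.id_comp] at h2
    exact h2.symm
  refine HenselLib.flat_of_colim (R := X) (H := Y) (fun x => ?_) (fun C _ _ _ τ a ha => ?_)
  · obtain ⟨j, a, ha⟩ := exists_rep ht x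
    letI : Algebra X (D.obj j) := RingHom.toAlgebra (R := X) (s.app j).hom
    refine ⟨D.obj j, inferInstance, inferInstance, (h j).1,
      { (t.app j).hom with commutes' := fun r => RingHom.congr_fun (congrArg CommRingCat.Hom.hom (h j).2) r }, a, ha⟩
  · obtain ⟨j, q, hq, hqg⟩ := MorphismProperty.exists_hom_of_isFinitelyPresentable ht
      (IndEtaleOps.E_le_fp (CommRingCat.ofHom (algebraMap X C)) (RingHom.etale_algebraMap.2 inferInstance)) s
      (CommRingCat.ofHom τ.toRingHom) (fun i => (h i).2.trans (CommRingCat.hom_ext τ.comp_algebraMap.symm))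
    obtain ⟨k, b, hk⟩ := exists_rep_eq ht j (q.hom a) 0 (by
      have h2 := RingHom.congr_fun (congrArg CommRingCat.Hom.hom hqg) a
      exact h2.trans (ha.trans (map_zero _).symm))
    letI : Algebra X (D.obj k) := RingHom.toAlgebra (R := X) (s.app k).hom
    refine ⟨D.obj k, inferInstance, inferInstance, (h k).1,
      { (D.map b).hom.comp q.hom with commutes' := fun r => ?_ },
      { (t.app k).hom with commutes' := fun r => RingHom.congr_fun (congrArg CommRingCat.Hom.hom (h k).2) r }, ?_, hk.trans (map_zero _)⟩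
    · have h2 := RingHom.congr_fun (congrArg CommRingCat.Hom.hom (congrArg (· ≫ D.map b) hq)) r
      exact h2.trans (RingHom.congr_fun (congrArg CommRingCat.Hom.hom (hn b)) r)
    · ext x
      exact (RingHom.congr_fun (congrArg CommRingCat.Hom.hom ((Cocone.mk _ t).w b)) (q.hom x)).trans
        (RingHom.congr_fun (congrArg CommRingCat.Hom.hom hqg) x)

/-- A flat filtered colimit of faithfully flat maps is faithfully flat. -/
theorem faithfullyFlat_of_colim {J : Type u} [SmallCategory J] [IsFiltered J] {D : J ⥤ CommRingCat.{u}}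
    {X : CommRingCat.{u}} {c : Cocone D} (hc : IsColimit c) (s : (Functor.const J).obj X ⟶ D) (f : X ⟶ c.pt)
    (hs : ∀ j, FF (s.app j) ∧ s.app j ≫ c.ι.app j = f) (hflat : f.hom.Flat) : FF f := by
  algebraize [f.hom]
  show f.hom.FaithfullyFlat
  rw [← f.hom.algebraMap_toAlgebra, RingHom.faithfullyFlat_algebraMap_iff]
  refine ⟨fun {m} hm htop => ?_⟩
  obtain ⟨j, hj⟩ := exists_map_eq_top hc m s f (fun j => (hs j).2) (by
    rw [Ideal.smul_top_eq_map, Submodule.restrictScalars_eq_top_iff] at htop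
    exact htop)
  obtain ⟨q, hq⟩ := (RingHom.FaithfullyFlat.iff_flat_and_comap_surjective.1 (hs j).1).2 ⟨m, hm.isPrime⟩
  have hm' : q.asIdeal.comap (s.app j).hom = m := congrArg PrimeSpectrum.asIdeal hq
  exact q.isPrime.ne_top (top_le_iff.1 (hj ▸ Ideal.map_le_iff_le_comap.2 hm'.ge))

theorem ind_EF_ff {X Y : CommRingCat.{u}} {f : X ⟶ Y} (hf : MorphismProperty.ind.{u} EF f) : FF f := by
  obtain ⟨J, _, _, D, s, t, ht, h⟩ := hf
  exact faithfullyFlat_of_colim ht s f (fun j => ⟨(h j).1.2, (h j).2⟩)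
    (flat_of_ind ⟨J, inferInstance, inferInstance, D, s, t, ht, fun j => ⟨(h j).1.1, (h j).2⟩⟩)

/-- The spectrum of a pushout surjects onto the fibre product of spectra. -/
theorem mem_range_comap_of_isPushout {X Y T' T : CommRingCat.{u}} {a : X ⟶ Y} {b : X ⟶ T'} {f : Y ⟶ T}
    {g : T' ⟶ T} (hp : IsPushout a b f g) (q : PrimeSpectrum Y)
    (hq : PrimeSpectrum.comap a.hom q ∈ Set.range (PrimeSpectrum.comap b.hom)) :
    q ∈ Set.range (PrimeSpectrum.comap f.hom) := by
  obtain ⟨P, hP⟩ := hq
  let p := PrimeSpectrum.comap a.hom q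
  letI : Algebra p.asIdeal.ResidueField q.asIdeal.ResidueField :=
    (Ideal.ResidueField.map p.asIdeal q.asIdeal a.hom rfl).toAlgebra
  letI : Algebra p.asIdeal.ResidueField P.asIdeal.ResidueField :=
    (Ideal.ResidueField.map p.asIdeal P.asIdeal b.hom (congrArg PrimeSpectrum.asIdeal hP).symm).toAlgebra
  let M := q.asIdeal.ResidueField ⊗[p.asIdeal.ResidueField] P.asIdeal.ResidueField
  obtain ⟨m, hm⟩ := Ideal.exists_maximal M
  letI := Ideal.Quotient.field m
  let φ : q.asIdeal.ResidueField →+* M ⧸ m := (Ideal.Quotient.mk m).comp Algebra.TensorProduct.includeLeftRingHom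
  let ψ : P.asIdeal.ResidueField →+* M ⧸ m :=
    (Ideal.Quotient.mk m).comp Algebra.TensorProduct.includeRight.toRingHom
  let l : Y →+* M ⧸ m := φ.comp (algebraMap Y q.asIdeal.ResidueField)
  let r : T' →+* M ⧸ m := ψ.comp (algebraMap T' P.asIdeal.ResidueField)
  have hw : a ≫ CommRingCat.ofHom l = b ≫ CommRingCat.ofHom r := by
    ext x
    have h1 : algebraMap Y q.asIdeal.ResidueField (a.hom x) =
        algebraMap p.asIdeal.ResidueField q.asIdeal.ResidueField (algebraMap X p.asIdeal.ResidueField x) :=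
      (Ideal.ResidueField.map_algebraMap ..).symm
    have h2 : algebraMap T' P.asIdeal.ResidueField (b.hom x) =
        algebraMap p.asIdeal.ResidueField P.asIdeal.ResidueField (algebraMap X p.asIdeal.ResidueField x) :=
      (Ideal.ResidueField.map_algebraMap ..).symm
    show φ (algebraMap Y q.asIdeal.ResidueField (a.hom x)) = ψ (algebraMap T' P.asIdeal.ResidueField (b.hom x))
    rw [h1, h2]
    simp only [φ, ψ, RingHom.comp_apply]
    exact congrArg _ (((Algebra.TensorProduct.includeRight (R := p.asIdeal.ResidueField)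
      (A := q.asIdeal.ResidueField) (B := P.asIdeal.ResidueField)).commutes _).symm)
  let d : T ⟶ CommRingCat.of (M ⧸ m) := hp.desc (CommRingCat.ofHom l) (CommRingCat.ofHom r) hw
  refine ⟨⟨RingHom.ker d.hom, RingHom.ker_isPrime _⟩, PrimeSpectrum.ext ?_⟩
  show (RingHom.ker d.hom).comap f.hom = q.asIdeal
  rw [RingHom.comap_ker, ← CommRingCat.hom_comp, hp.inl_desc, CommRingCat.hom_ofHom]
  show RingHom.ker (φ.comp (algebraMap Y q.asIdeal.ResidueField)) = q.asIdeal
  rw [← RingHom.comap_ker, (RingHom.injective_iff_ker_eq_bot φ).1 φ.injective, ← RingHom.ker_eq_comap_bot,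
    Ideal.ker_algebraMap_residueField]

theorem isOpen_range_comap {X T : CommRingCat.{u}} {b : X ⟶ T} (hb : E b) :
    IsOpen (Set.range (PrimeSpectrum.comap b.hom)) := by
  algebraize [b.hom]
  have : Algebra.Etale X T := hb
  exact (PrimeSpectrum.isOpenMap_comap_of_hasGoingDown_of_finitePresentation).isOpen_range

end Groth.Agent.EtRetr
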